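import Mathlib.LinearAlgebra.Matrix.PosDef
import Mathlib.Data.Nat.Choose.Vandermonde
import Mathlib.Algebra.Order.Star.Real
import Mathlib.Data.Nat.Dist
import Mathlib.Algebra.BigOperators.Intervals
import Mathlib.Tactic.Ring

/-!
# Binomial Toeplitz matrices
-/

namespace Groth.Agent.ToeplitzBinom

open Matrix Finset

theorem vandermonde (N d : ℕ) :
    ∑ l ∈ range (N + 1), N.choose l * N.choose (l + d) = (2 * N).choose (N + d) := by
  rcases Nat.lt_or_ge N d with h | h
  · rw [Nat.choose_eq_zero_of_lt (by omega)]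
    exact Finset.sum_eq_zero fun l _ => by rw [Nat.choose_eq_zero_of_lt (show N < l + d by omega), mul_zero]
  · have h1 : (2 * N).choose (N + d) = (N + N).choose (N - d) := by
      rw [← Nat.choose_symm (show N - d ≤ N + N by omega)]
      congr 1 <;> omega
    rw [h1, Nat.add_choose_eq, Finset.Nat.sum_antidiagonal_eq_sum_range_succ_mk]
    refine (Finset.sum_subset (show range (N - d + 1) ⊆ range (N + 1) from
      fun a ha => by simp at ha ⊢; omega) ?_).symm.trans (Finset.sum_congr rfl ?_)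
    · intro l _ hl
      simp at hl
      rw [Nat.choose_eq_zero_of_lt (show N < l + d by omega), mul_zero]
    · intro l hl
      simp at hl
      congr 1
      rw [← Nat.choose_symm (show N - d - l ≤ N by omega)]
      congr 1
      omega

/-- The signed shifted binomial rows. -/
noncomputable def rows (N m : ℕ) : Matrix (Fin (m + N)) (Fin m) ℝ :=
  Matrix.of fun k i => if (i : ℕ) ≤ k then (-1 : ℝ) ^ (i : ℕ) * (N.choose ((k : ℕ) - i) : ℝ) else 0

theorem gram_apply_of_le (N m : ℕ) (i j : Fin m) (h : (i : ℕ) ≤ j) :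
    ((rows N m)ᴴ * rows N m) i j =
      (-1 : ℝ) ^ ((i : ℕ) + (j : ℕ)) * ((2 * N).choose (N + Nat.dist i j) : ℝ) := by
  rw [Nat.dist_eq_sub_of_le h, ← vandermonde, Nat.cast_sum, Finset.mul_sum, Matrix.mul_apply]
  refine (Eq.trans ?_ (Fin.sum_univ_eq_sum_range (fun k => (if (i : ℕ) ≤ k then (-1 : ℝ) ^ (i : ℕ) *
      (N.choose (k - i) : ℝ) else 0) * (if (j : ℕ) ≤ k then (-1 : ℝ) ^ (j : ℕ) *
      (N.choose (k - j) : ℝ) else 0)) (m + N))).trans ?_
  · refine Finset.sum_congr rfl fun k _ => ?_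
    simp [rows]
  · rw [← Finset.sum_subset (show Finset.Ico (j : ℕ) ((j : ℕ) + (N + 1)) ⊆ range (m + N) from
      fun a ha => by simp at ha ⊢; omega) ?_, Finset.sum_Ico_eq_sum_range]
    · rw [Nat.add_sub_cancel_left]
      refine Finset.sum_congr rfl fun l _ => ?_
      rw [if_pos (by omega), if_pos (by omega), Nat.add_sub_cancel_left,
        show (j : ℕ) + l - i = l + ((j : ℕ) - i) by omega, pow_add]
      push_cast
      ring
    · intro k _ hk
      simp at hk
      rcases Nat.lt_or_ge k (j : ℕ) with h' | h'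
      · rw [if_neg (show ¬((j : ℕ) ≤ k) by omega), mul_zero]
      · rw [if_pos h', Nat.choose_eq_zero_of_lt (show N < k - j by have := hk h'; omega)]
        simp

theorem gram_apply (N m : ℕ) (i j : Fin m) :
    ((rows N m)ᴴ * rows N m) i j =
      (-1 : ℝ) ^ ((i : ℕ) + (j : ℕ)) * ((2 * N).choose (N + Nat.dist i j) : ℝ) := by
  rcases le_total (i : ℕ) (j : ℕ) with h | h
  · exact gram_apply_of_le N m i j h
  · rw [← (Matrix.isHermitian_conjTranspose_mul_self (rows N m)).apply i j, star_trivial,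
      gram_apply_of_le N m j i h, Nat.dist_comm, add_comm]

theorem posDef (N m : ℕ) :
    (Matrix.of fun i j : Fin m =>
      (-1 : ℝ) ^ ((i : ℕ) + (j : ℕ)) * ((2 * N).choose (N + Nat.dist i j) : ℝ)).PosDef := by
  have heq : (Matrix.of fun i j : Fin m =>
      (-1 : ℝ) ^ ((i : ℕ) + (j : ℕ)) * ((2 * N).choose (N + Nat.dist i j) : ℝ)) =
      (rows N m)ᴴ * rows N m := by
    ext i j; rw [gram_apply]; rfl
  rw [heq]
  refine Matrix.PosDef.conjTranspose_mul_self _ ?_
  intro v w hvw
  by_contra hne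
  obtain ⟨i, hi⟩ := Function.ne_iff.1 hne
  classical
  have hex : ∃ a : ℕ, ∃ h : a < m, v ⟨a, h⟩ ≠ w ⟨a, h⟩ := ⟨i, i.2, hi⟩
  obtain ⟨hlt, ha⟩ := Nat.find_spec hex
  set a : Fin m := ⟨Nat.find hex, hlt⟩ with hadef
  have h0 : ∀ b : Fin m, b < a → v b = w b := fun b hb => by
    by_contra h
    exact Nat.find_min hex hb ⟨b.2, h⟩
  have := congrFun hvw ⟨a, by omega⟩
  simp only [Matrix.mulVec, dotProduct] at this
  have e : ∀ u : Fin m → ℝ, (∀ b, b < a → u b = 0) →
      ∑ b, rows N m ⟨a, by omega⟩ b * u b = (-1 : ℝ) ^ (a : ℕ) * u a := by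
    intro u hu
    rw [Finset.sum_eq_single a]
    · simp [rows]
    · intro b _ hb
      rcases lt_or_gt_of_ne hb with h | h
      · rw [hu b h, mul_zero]
      · simp [rows, show ¬((b : ℕ) ≤ (a : ℕ)) by simpa using h]
    · simp
  have h2 := e (v - w) fun b hb => by simp [h0 b hb]
  simp only [Pi.sub_apply, mul_sub, Finset.sum_sub_distrib, this, sub_self] at h2
  have h3 : (-1 : ℝ) ^ (a : ℕ) * (v a - w a) = 0 := by rw [mul_sub]; exact h2.symm
  exact ha (sub_eq_zero.1 ((mul_eq_zero.1 h3).resolve_left (pow_ne_zero _ (by norm_num))))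

end Groth.Agent.ToeplitzBinom
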